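import Cfsg.Agent.H676.OrdNT
import Cfsg.Prelude.Def_Classification2
import Cfsg.Agent.S0245
import Cfsg.Agent.S0246
import Cfsg.Agent.S0292
import Cfsg.Agent.S0293
import Cfsg.Agent.S0294

/-!
# `(|G|_r)² < |G|` for the symplectic and orthogonal groups (helper676)

KNOWN-GROUP FACT: for `G = PSp_{2m}(q)`, `PΩ_{2m+1}(q)`, `PΩ^±_{2m}(q)` the square of every prime power part of the
order is less than the order.
-/

set_option autoImplicit false

namespace Cfsg.Agent.H676.OrderClassical

open Cfsg Cfsg.Agent.H678 Cfsg.Agent.H676.OrdNT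

variable {F : Type*} [Field F] [Fintype F]

theorem psp {m : ℕ} (hm : 2 ≤ m) (hm2 : m = 2 → 3 ≤ Fintype.card F) : Good (Nat.card (PSp m F)) := by
  refine good_psp (q := Fintype.card F) Fintype.isPrimePow_card_of_field hm hm2 ?_
  have h1 := S0245.result (F := F) rfl m
  have h2 := S0246.result (F := F) rfl m (by omega)
  have h3 := Subgroup.card_eq_card_quotient_mul_card_subgroup
    (Subgroup.center (Matrix.symplecticGroup (Fin m) F))
  rw [h1, h2] at h3
  rw [mul_comm]
  exact h3.symm

theorem oodd {m : ℕ} (hm : 3 ≤ m) (ho : Odd (Fintype.card F)) :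
    Good (Nat.card (POmega F (quadFormOdd m F))) := by
  refine good_psp (q := Fintype.card F) (m := m) Fintype.isPrimePow_card_of_field (by omega) (by omega) ?_
  have h := S0292.result (F := F) rfl ho m hm
  have h2 : Nat.gcd 2 (Fintype.card F - 1) = 2 := by
    apply Nat.gcd_eq_left
    obtain ⟨k, hk⟩ := ho
    omega
  rw [h2]
  exact h

theorem oplus {m : ℕ} (hm : 4 ≤ m) : Good (Nat.card (POmega F (quadFormPlus m F))) := by
  refine good_om (q := Fintype.card F) Fintype.isPrimePow_card_of_field hm (Or.inl rfl) ?_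
  have h := S0293.result (F := F) rfl m hm
  rw [h, mul_assoc]
  rfl

theorem ominus {m : ℕ} (hm : 4 ≤ m) {a b : F}
    (hab : ∀ z₁ z₂ : F, z₁ ^ 2 + a * z₁ * z₂ + b * z₂ ^ 2 = 0 → z₁ = 0 ∧ z₂ = 0) :
    Good (Nat.card (POmega F (quadFormMinus (m - 1) F a b))) := by
  refine good_om (q := Fintype.card F) Fintype.isPrimePow_card_of_field hm (Or.inr rfl) ?_
  have h := S0294.result (F := F) rfl m hm a b hab
  rw [h, mul_assoc]
  rfl

end Cfsg.Agent.H676.OrderClassical
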